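import Cfsg.Agent.H691.AN.Defs
import Cfsg.Agent.H704.Enum

/-!
# S4766, A7: the degrees of `A_n` for `5 ≤ n ≤ 19`

* `degA n` : the list of the degrees of `A_n` (`5 ≤ n ≤ 19`), increasing;
* `mem_D_iff` : `d ∈ D n ↔ d ∈ degA n`; `maxA n`, `le_maxA`, `maxA_mem` : the largest degree.
-/

set_option autoImplicit false

namespace Cfsg.Agent.H835.AN

open Cfsg.Agent.H704 Cfsg.Agent.H691.AN

/-- the degrees of `A_n`, `5 ≤ n ≤ 19` -/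
def degA : ℕ → List ℕ
  | 5 =>
    [1, 3, 4, 5]
  | 6 =>
    [1, 5, 8, 9, 10]
  | 7 =>
    [1, 6, 10, 14, 15, 21, 35]
  | 8 =>
    [1, 7, 14, 20, 21, 28, 35, 45, 56, 64, 70]
  | 9 =>
    [1, 8, 21, 27, 28, 35, 42, 48, 56, 84, 105, 120, 162, 168, 189, 216]
  | 10 =>
    [1, 9, 35, 36, 42, 75, 84, 90, 126, 160, 210, 224, 225, 252, 288, 300, 315, 350, 384, 450, 525, 567]
  | 11 =>
    [1, 10, 44, 45, 110, 120, 126, 132, 165, 210, 231, 330, 385, 462, 550, 594, 660, 693, 825, 924, 990,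
     1100, 1155, 1232, 1320, 1540, 2310]
  | 12 =>
    [1, 11, 54, 55, 132, 154, 165, 275, 297, 320, 330, 462, 616, 891, 945, 1050, 1155, 1320, 1408, 1485,
     1650, 1728, 1925, 2079, 2112, 2376, 2673, 2970, 3080, 3520, 3564, 3696, 3850, 4158, 4455, 5632, 5775]
  | 13 =>
    [1, 12, 65, 66, 208, 220, 429, 462, 495, 572, 792, 936, 1287, 1365, 1430, 2574, 2860, 3003, 3432, 3575,
     3640, 4004, 4212, 4290, 5005, 5148, 5720, 6006, 6435, 6864, 7371, 7800, 8008, 8580, 9009, 9360, 10296,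
     11440, 11583, 12012, 12870, 15015, 17160, 20592, 21450]
  | 14 =>
    [1, 13, 77, 78, 273, 286, 429, 560, 637, 715, 1001, 1287, 1365, 1716, 2002, 2079, 4368, 4576, 4752, 4928,
     5733, 6006, 6435, 7007, 7644, 8085, 9009, 12012, 13650, 14014, 15015, 15444, 16016, 20384, 21021, 21450,
     23296, 24960, 27027, 28028, 28665, 29952, 34320, 35035, 36608, 42042, 47775, 48048, 50050, 63063, 64064,
     69498]
  | 15 =>
    [1, 14, 90, 91, 350, 364, 715, 910, 1001, 1430, 1638, 1716, 1925, 2002, 2835, 2925, 3003, 5005, 6006,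
     7007, 7722, 9100, 9450, 11088, 11375, 11583, 12012, 12740, 13650, 14300, 19305, 21450, 22113, 24948,
     25025, 26950, 27027, 28028, 30030, 32032, 34398, 35035, 35100, 42042, 43120, 44550, 45045, 50050, 51975,
     53625, 54054, 57330, 58968, 61425, 63700, 70070, 75075, 78000, 80080, 81081, 90090, 91000, 96525,
     100100, 108108, 112112, 122850, 125125, 126126, 128700, 135135, 146432, 150150, 159250, 162162, 175175,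
     184275, 210210, 221130, 231660, 243243]
  | 16 =>
    [1, 15, 104, 105, 440, 455, 896, 1260, 1365, 1430, 2548, 2640, 3003, 3432, 3640, 3900, 4004, 5005, 6435,
     10752, 11648, 12012, 13860, 14300, 16848, 18018, 20020, 21021, 21840, 23100, 24024, 24960, 30030, 32032,
     36036, 36608, 38220, 42120, 43120, 45760, 51480, 60060, 65520, 68640, 69888, 71500, 71680, 73710, 76440,
     80640, 82368, 85800, 91520, 91728, 100100, 105600, 112112, 114400, 114660, 115830, 116480, 125125,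
     140140, 150150, 155232, 168168, 171600, 173250, 180180, 194040, 197120, 200200, 202125, 206388, 210210,
     231660, 240240, 262080, 266240, 280280, 292864, 300300, 305760, 318500, 320320, 336336, 337920, 360360,
     411840, 416988, 429000, 448448, 464373, 480480, 500500, 512512, 515970, 549120, 559104, 582400, 600600,
     630630, 640640, 648648, 673920, 698880, 819000, 1153152]
  | 17 =>
    [1, 16, 119, 120, 544, 560, 1105, 1700, 1820, 3536, 3808, 4368, 4862, 5236, 5355, 6188, 6435, 7072, 8008,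
     11440, 15912, 17017, 19448, 20400, 20944, 24752, 33320, 35700, 37400, 38675, 46410, 48620, 62832, 65637,
     68068, 70720, 74256, 85085, 87516, 116688, 121550, 123760, 129948, 134640, 136136, 145860, 148512,
     155584, 157080, 159120, 170170, 194480, 204204, 205632, 209440, 233376, 238238, 243100, 247520, 259896,
     272272, 291720, 318240, 327250, 333200, 340340, 346528, 353600, 364650, 388960, 399840, 408408, 433160,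
     466752, 486200, 523600, 544544, 556920, 565488, 583440, 586432, 618800, 631125, 680680, 700128, 729300,
     742560, 749700, 765765, 816816, 848640, 850850, 891072, 908820, 918918, 952952, 972400, 1021020,
     1047200, 1050192, 1082900, 1089088, 1113840, 1299480, 1326000, 1336608, 1361360, 1429428, 1454112,
     1485120, 1570800, 1591200, 1633632, 1701700, 1750320, 1832600, 1905904, 2165800, 2255526, 2362932,
     2431000, 2436525, 2450448, 2475200, 2552550, 2598960, 2722720, 2858856, 3573570, 3620864]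
  | 18 =>
    [1, 17, 135, 136, 663, 680, 1344, 2244, 2380, 4641, 4862, 5508, 6188, 6885, 7020, 9996, 11934, 12376,
     13260, 19448, 22848, 24192, 24310, 29172, 29835, 35343, 53040, 56100, 58344, 60060, 70720, 87516, 88128,
     91520, 99144, 102102, 106029, 111384, 112320, 116025, 136136, 143208, 162162, 182784, 219912, 228480,
     238680, 251328, 255255, 259896, 268515, 302940, 322218, 331500, 339456, 340340, 353430, 358020, 363528,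
     364650, 408408, 447525, 459459, 466752, 501228, 510510, 556920, 583440, 590733, 595595, 612612, 649740,
     656370, 659736, 678912, 714714, 779688, 787644, 837760, 848232, 875160, 933504, 952952, 1018368,
     1021020, 1089088, 1099560, 1131520, 1145664, 1175040, 1215500, 1225224, 1233792, 1244672, 1272348,
     1312740, 1349460, 1357824, 1429428, 1432080, 1458600, 1503684, 1531530, 1575288, 1649340, 1790100,
     1823250, 1989000, 2042040, 2144142, 2148120, 2333760, 2362932, 2382380, 2598960, 2625480, 2756754,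
     2784600, 2858856, 2923830, 2970240, 3007368, 3055104, 3180870, 3198720, 3222180, 3267264, 3281850,
     3403400, 3508596, 3544398, 3646500, 3675672, 3734016, 3877632, 3960320, 3965760, 3978000, 4200768,
     4230144, 4288284, 4455360, 4511052, 4594590, 4691456, 4725864, 4862000, 4950400, 5012280, 5105100,
     5250960, 5346432, 5361664, 5469750, 5937624, 6126120, 6265350, 6361740, 6432426, 6534528, 6789120,
     6872250, 7088796, 7634088, 7876440, 8019648, 8078400, 8270262, 8486400, 8576568, 9165312, 9189180,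
     9529520, 9801792, 10720710, 11277630, 13366080, 16243500, 16336320]
  | 19 =>
    [1, 18, 152, 153, 798, 816, 1615, 2907, 3060, 5985, 7752, 8568, 8892, 9044, 15504, 16796, 18564, 23256,
     24310, 25194, 31824, 31977, 33592, 40698, 41496, 43758, 49248, 75582, 81396, 85272, 88179, 90440,
     151164, 160056, 169575, 175560, 184756, 203490, 277134, 293930, 369512, 372096, 383724, 403104, 415701,
     421344, 444600, 488376, 529074, 554268, 566865, 596904, 604656, 639540, 646646, 680238, 755820, 795872,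
     815100, 831402, 840294, 949620, 976752, 1017450, 1058148, 1108536, 1119195, 1200420, 1217216, 1234506,
     1322685, 1369368, 1410864, 1511640, 1534896, 1569780, 1627920, 1662804, 1790712, 1847560, 2046528,
     2078505, 2116296, 2217072, 2263261, 2441880, 2494206, 2519400, 2586584, 2686068, 2834325, 2909907,
     3038784, 3325608, 3391500, 3410880, 3879876, 4081428, 4232592, 4263600, 4408950, 4434144, 4526522,
     4837248, 4938024, 5038800, 5542680, 5651208, 5668650, 5819814, 5878600, 6267492, 6348888, 6466460,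
     6651216, 6802380, 6837264, 6928350, 7407036, 7674480, 7759752, 8162856, 8314020, 8356656, 8465184,
     8868288, 8953560, 9523332, 9593100, 9699690, 9876048, 9976824, 10203570, 10581480, 11110554, 11286912,
     11639628, 12345060, 12597000, 13302432, 14244300, 14284998, 14325696, 14511744, 14814072, 14965236,
     15116400, 15261750, 15519504, 15872220, 15988500, 16116408, 16325712, 16628040, 17459442, 17635800,
     17736576, 18106088, 18366426, 18653250, 19399380, 21976920, 22447854, 23094500, 23279256, 23814144,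
     24186240, 24418800, 24942060, 26453700, 26604864, 27713400, 27855520, 28569996, 28651392, 29106176,
     29393000, 29930472, 31039008, 31081644, 31744440, 33331662, 33426624, 34398208, 34918884, 36732852,
     40738698, 41570100, 42325920, 44089500, 47006190, 52907400, 58198140, 64664600]
  | _ => []

/-- partitions with these degrees -/
def wit : ℕ → List (List ℕ)
  | 5 =>
    [[5], [3, 1, 1], [4, 1], [3, 2]]
  | 6 =>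
    [[6], [5, 1], [3, 2, 1], [4, 2], [4, 1, 1]]
  | 7 =>
    [[7], [6, 1], [4, 1, 1, 1], [5, 2], [5, 1, 1], [3, 3, 1], [4, 2, 1]]
  | 8 =>
    [[8], [7, 1], [4, 4], [6, 2], [6, 1, 1], [5, 3], [5, 1, 1, 1], [4, 2, 1, 1], [4, 2, 2], [5, 2, 1],
     [4, 3, 1]]
  | 9 =>
    [[9], [8, 1], [3, 3, 3], [7, 2], [7, 1, 1], [5, 1, 1, 1, 1], [5, 4], [6, 3], [6, 1, 1, 1], [4, 4, 1],
     [6, 2, 1], [5, 2, 2], [5, 3, 1], [4, 3, 2], [5, 2, 1, 1], [4, 3, 1, 1]]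
  | 10 =>
    [[10], [9, 1], [8, 2], [8, 1, 1], [5, 5], [7, 3], [7, 1, 1, 1], [6, 4], [6, 1, 1, 1, 1], [7, 2, 1],
     [4, 3, 3], [5, 2, 1, 1, 1], [6, 2, 2], [4, 4, 2], [5, 4, 1], [4, 4, 1, 1], [6, 3, 1], [6, 2, 1, 1],
     [4, 3, 2, 1], [5, 3, 2], [5, 2, 2, 1], [5, 3, 1, 1]]
  | 11 =>
    [[11], [10, 1], [9, 2], [9, 1, 1], [8, 3], [8, 1, 1, 1], [6, 1, 1, 1, 1, 1], [6, 5], [7, 4],
     [7, 1, 1, 1, 1], [8, 2, 1], [5, 5, 1], [7, 2, 2], [4, 4, 3], [7, 3, 1], [7, 2, 1, 1], [5, 3, 3],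
     [6, 4, 1], [5, 2, 2, 2], [6, 2, 1, 1, 1], [6, 3, 2], [6, 2, 2, 1], [5, 4, 1, 1], [6, 3, 1, 1],
     [4, 4, 2, 1], [5, 3, 1, 1, 1], [5, 3, 2, 1]]
  | 12 =>
    [[12], [11, 1], [10, 2], [10, 1, 1], [6, 6], [9, 3], [9, 1, 1, 1], [8, 4], [7, 5], [9, 2, 1],
     [8, 1, 1, 1, 1], [4, 4, 4], [8, 2, 2], [8, 3, 1], [8, 2, 1, 1], [6, 2, 1, 1, 1, 1], [6, 5, 1],
     [5, 5, 2], [7, 4, 1], [5, 5, 1, 1], [6, 3, 3], [7, 2, 1, 1, 1], [7, 3, 2], [7, 2, 2, 1], [5, 4, 3],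
     [7, 3, 1, 1], [6, 4, 2], [4, 4, 3, 1], [6, 4, 1, 1], [5, 4, 1, 1, 1], [6, 2, 2, 1, 1], [6, 3, 1, 1, 1],
     [5, 3, 2, 1, 1], [5, 3, 3, 1], [5, 3, 2, 2], [6, 3, 2, 1], [5, 4, 2, 1]]
  | 13 =>
    [[13], [12, 1], [11, 2], [11, 1, 1], [10, 3], [10, 1, 1, 1], [9, 4], [7, 1, 1, 1, 1, 1, 1],
     [9, 1, 1, 1, 1], [8, 5], [8, 1, 1, 1, 1, 1], [9, 2, 2], [6, 6, 1], [9, 3, 1], [9, 2, 1, 1], [8, 4, 1],
     [7, 5, 1], [8, 2, 1, 1, 1], [8, 3, 2], [7, 3, 3], [8, 2, 2, 1], [7, 2, 2, 2], [8, 3, 1, 1],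
     [4, 4, 3, 2], [5, 5, 1, 1, 1], [6, 5, 2], [6, 5, 1, 1], [7, 4, 2], [6, 4, 3], [7, 4, 1, 1],
     [7, 2, 2, 1, 1], [7, 3, 1, 1, 1], [5, 3, 3, 1, 1], [5, 5, 2, 1], [6, 2, 2, 2, 1], [6, 3, 1, 1, 1, 1],
     [6, 4, 1, 1, 1], [6, 3, 3, 1], [5, 3, 3, 2], [7, 3, 2, 1], [5, 4, 2, 2], [5, 4, 3, 1], [6, 4, 2, 1],
     [6, 3, 2, 1, 1], [5, 4, 2, 1, 1]]
  | 14 =>
    [[14], [13, 1], [12, 2], [12, 1, 1], [11, 3], [11, 1, 1, 1], [7, 7], [11, 2, 1], [10, 4],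
     [10, 1, 1, 1, 1], [9, 5], [9, 1, 1, 1, 1, 1], [10, 2, 2], [8, 1, 1, 1, 1, 1, 1], [10, 3, 1],
     [10, 2, 1, 1], [9, 4, 1], [7, 6, 1], [7, 2, 1, 1, 1, 1, 1], [9, 2, 1, 1, 1], [9, 3, 2], [8, 5, 1],
     [6, 6, 2], [8, 3, 3], [8, 2, 2, 2], [8, 2, 1, 1, 1, 1], [6, 4, 4], [8, 4, 2], [8, 4, 1, 1], [7, 5, 2],
     [6, 5, 3], [7, 5, 1, 1], [7, 4, 3], [7, 2, 2, 2, 1], [5, 4, 4, 1], [5, 5, 2, 2], [8, 3, 2, 1],
     [7, 4, 1, 1, 1], [7, 3, 3, 1], [7, 3, 2, 2], [6, 4, 1, 1, 1, 1], [6, 3, 2, 1, 1, 1], [5, 4, 2, 2, 1],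
     [6, 3, 3, 2], [6, 5, 2, 1], [7, 4, 2, 1], [7, 3, 2, 1, 1], [5, 4, 3, 2], [6, 4, 3, 1], [6, 3, 2, 2, 1],
     [5, 4, 3, 1, 1], [6, 4, 2, 1, 1]]
  | 15 =>
    [[15], [14, 1], [13, 2], [13, 1, 1], [12, 3], [12, 1, 1, 1], [12, 2, 1], [11, 4], [11, 1, 1, 1, 1],
     [8, 7], [10, 5], [8, 1, 1, 1, 1, 1, 1, 1], [11, 2, 2], [9, 6], [11, 3, 1], [11, 2, 1, 1],
     [9, 1, 1, 1, 1, 1, 1], [7, 7, 1], [5, 5, 5], [10, 4, 1], [10, 2, 1, 1, 1], [10, 3, 2], [10, 2, 2, 1],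
     [10, 3, 1, 1], [9, 5, 1], [8, 6, 1], [4, 4, 4, 3], [9, 3, 3], [9, 2, 2, 2], [9, 2, 1, 1, 1, 1],
     [8, 2, 1, 1, 1, 1, 1], [6, 6, 3], [9, 4, 2], [9, 2, 2, 1, 1], [7, 6, 2], [9, 3, 1, 1, 1], [7, 6, 1, 1],
     [6, 6, 1, 1, 1], [6, 5, 4], [8, 5, 2], [7, 2, 2, 2, 2], [8, 4, 3], [8, 5, 1, 1], [9, 3, 2, 1],
     [8, 2, 2, 1, 1, 1], [8, 3, 1, 1, 1, 1], [7, 5, 3], [6, 6, 2, 1], [7, 3, 1, 1, 1, 1, 1], [8, 4, 1, 1, 1],
     [5, 5, 4, 1], [8, 3, 3, 1], [8, 3, 2, 2], [7, 5, 1, 1, 1], [6, 5, 1, 1, 1, 1], [7, 2, 2, 2, 1, 1],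
     [5, 4, 3, 3], [6, 3, 3, 1, 1, 1], [6, 4, 4, 1], [5, 4, 4, 2], [7, 3, 3, 2], [8, 4, 2, 1], [5, 5, 3, 2],
     [6, 5, 2, 2], [7, 5, 2, 1], [7, 4, 2, 2], [7, 3, 3, 1, 1], [5, 5, 2, 2, 1], [5, 5, 3, 1, 1],
     [6, 5, 3, 1], [7, 4, 3, 1], [5, 4, 3, 2, 1], [7, 3, 2, 1, 1, 1], [7, 3, 2, 2, 1], [6, 5, 2, 1, 1],
     [6, 4, 3, 2], [7, 4, 2, 1, 1], [6, 3, 3, 2, 1], [6, 4, 2, 1, 1, 1], [6, 4, 3, 1, 1], [6, 4, 2, 2, 1]]
  | 16 =>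
    [[16], [15, 1], [14, 2], [14, 1, 1], [13, 3], [13, 1, 1, 1], [13, 2, 1], [12, 4], [12, 1, 1, 1, 1],
     [8, 8], [11, 5], [12, 2, 2], [11, 1, 1, 1, 1, 1], [9, 7], [10, 6], [12, 3, 1], [12, 2, 1, 1],
     [10, 1, 1, 1, 1, 1, 1], [9, 1, 1, 1, 1, 1, 1, 1], [11, 4, 1], [11, 2, 1, 1, 1], [4, 4, 4, 4],
     [11, 3, 2], [11, 2, 2, 1], [11, 3, 1, 1], [8, 7, 1], [10, 5, 1], [8, 2, 1, 1, 1, 1, 1, 1], [10, 3, 3],
     [10, 2, 2, 2], [10, 2, 1, 1, 1, 1], [9, 6, 1], [7, 7, 2], [7, 7, 1, 1], [6, 5, 5],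
     [9, 2, 1, 1, 1, 1, 1], [10, 4, 2], [10, 2, 2, 1, 1], [10, 4, 1, 1], [10, 3, 1, 1, 1], [6, 6, 4],
     [8, 4, 4], [9, 5, 2], [8, 6, 2], [9, 4, 3], [9, 5, 1, 1], [10, 3, 2, 1], [8, 6, 1, 1], [8, 2, 2, 2, 2],
     [9, 2, 2, 2, 1], [9, 2, 2, 1, 1, 1], [9, 3, 1, 1, 1, 1], [7, 6, 3], [6, 6, 1, 1, 1, 1], [7, 5, 4],
     [9, 4, 1, 1, 1], [8, 5, 3], [8, 2, 2, 1, 1, 1, 1], [9, 3, 2, 2], [8, 3, 1, 1, 1, 1, 1], [7, 6, 1, 1, 1],
     [5, 5, 2, 2, 2], [7, 3, 3, 3], [6, 6, 2, 2], [8, 2, 2, 2, 1, 1], [7, 2, 2, 2, 2, 1], [5, 5, 3, 3],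
     [8, 4, 1, 1, 1, 1], [9, 4, 2, 1], [9, 3, 2, 1, 1], [7, 4, 1, 1, 1, 1, 1], [6, 6, 3, 1],
     [7, 3, 2, 1, 1, 1, 1], [8, 3, 3, 2], [7, 6, 2, 1], [5, 5, 4, 2], [7, 4, 4, 1], [8, 4, 2, 2],
     [8, 5, 2, 1], [8, 3, 3, 1, 1], [6, 5, 4, 1], [6, 4, 3, 3], [7, 3, 2, 2, 2], [8, 4, 3, 1], [7, 5, 2, 2],
     [6, 4, 4, 2], [8, 3, 2, 1, 1, 1], [8, 3, 2, 2, 1], [6, 4, 4, 1, 1], [7, 5, 3, 1], [8, 4, 2, 1, 1],
     [6, 3, 3, 2, 2], [6, 4, 2, 2, 1, 1], [6, 4, 2, 2, 2], [6, 5, 3, 2], [7, 4, 3, 2], [7, 5, 2, 1, 1],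
     [5, 4, 4, 2, 1], [6, 5, 2, 1, 1, 1], [7, 3, 3, 2, 1], [7, 3, 2, 2, 1, 1], [6, 5, 2, 2, 1],
     [5, 5, 3, 2, 1], [6, 5, 3, 1, 1], [7, 4, 3, 1, 1], [7, 4, 2, 2, 1], [6, 4, 3, 1, 1, 1], [6, 4, 3, 2, 1]]
  | 17 =>
    [[17], [16, 1], [15, 2], [15, 1, 1], [14, 3], [14, 1, 1, 1], [14, 2, 1], [13, 4], [13, 1, 1, 1, 1],
     [13, 2, 2], [12, 5], [12, 1, 1, 1, 1, 1], [9, 8], [13, 3, 1], [13, 2, 1, 1], [11, 6],
     [9, 1, 1, 1, 1, 1, 1, 1, 1], [10, 7], [11, 1, 1, 1, 1, 1, 1], [10, 1, 1, 1, 1, 1, 1, 1], [12, 4, 1],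
     [12, 2, 1, 1, 1], [8, 8, 1], [12, 3, 2], [12, 2, 2, 1], [12, 3, 1, 1], [11, 5, 1], [11, 3, 3],
     [11, 2, 2, 2], [11, 2, 1, 1, 1, 1], [9, 7, 1], [10, 6, 1], [11, 4, 2], [10, 2, 1, 1, 1, 1, 1],
     [11, 2, 2, 1, 1], [11, 4, 1, 1], [11, 3, 1, 1, 1], [9, 2, 1, 1, 1, 1, 1, 1], [6, 6, 5], [8, 7, 2],
     [7, 7, 3], [10, 5, 2], [10, 4, 3], [10, 5, 1, 1], [7, 5, 5], [10, 2, 2, 2, 1], [7, 7, 1, 1, 1],
     [10, 3, 1, 1, 1, 1], [9, 2, 2, 2, 2], [9, 6, 2], [9, 6, 1, 1], [10, 4, 1, 1, 1], [5, 4, 4, 4],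
     [10, 3, 3, 1], [10, 3, 2, 2], [9, 2, 2, 1, 1, 1, 1], [9, 3, 1, 1, 1, 1, 1], [7, 6, 4], [9, 5, 3],
     [7, 2, 2, 2, 2, 2], [8, 6, 3], [5, 5, 5, 2], [9, 2, 2, 2, 1, 1], [9, 5, 1, 1, 1], [10, 4, 2, 1],
     [8, 6, 1, 1, 1], [8, 3, 3, 3], [10, 3, 2, 1, 1], [9, 4, 1, 1, 1, 1], [6, 5, 5, 1], [8, 2, 2, 2, 2, 1],
     [7, 6, 1, 1, 1, 1], [9, 3, 3, 2], [8, 2, 2, 2, 1, 1, 1], [8, 4, 1, 1, 1, 1, 1], [8, 5, 1, 1, 1, 1],
     [6, 6, 4, 1], [9, 4, 2, 2], [7, 5, 1, 1, 1, 1, 1], [9, 5, 2, 1], [9, 3, 3, 1, 1], [8, 6, 2, 1],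
     [7, 3, 3, 1, 1, 1, 1], [9, 4, 3, 1], [9, 3, 2, 1, 1, 1], [5, 4, 4, 3, 1], [8, 3, 2, 2, 2],
     [9, 3, 2, 2, 1], [5, 5, 3, 2, 2], [6, 4, 4, 3], [8, 5, 2, 2], [6, 6, 3, 2], [6, 6, 2, 1, 1, 1],
     [9, 4, 2, 1, 1], [7, 6, 3, 1], [7, 4, 3, 3], [6, 5, 3, 3], [6, 6, 2, 2, 1], [8, 3, 3, 1, 1, 1],
     [7, 5, 4, 1], [7, 6, 2, 1, 1], [7, 4, 4, 2], [8, 5, 3, 1], [8, 4, 3, 2], [7, 4, 4, 1, 1],
     [7, 3, 3, 2, 2], [6, 5, 4, 2], [8, 3, 3, 2, 1], [8, 3, 2, 2, 1, 1], [7, 4, 2, 2, 2], [8, 4, 2, 1, 1, 1],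
     [6, 4, 4, 1, 1, 1], [6, 5, 4, 1, 1], [8, 4, 3, 1, 1], [7, 5, 3, 2], [7, 4, 2, 1, 1, 1, 1],
     [7, 5, 2, 1, 1, 1], [7, 5, 2, 2, 1], [7, 5, 3, 1, 1], [6, 4, 3, 3, 1], [7, 3, 3, 2, 1, 1],
     [6, 4, 3, 2, 1, 1], [6, 4, 4, 2, 1], [6, 5, 3, 1, 1, 1], [7, 4, 3, 1, 1, 1], [6, 5, 2, 2, 1, 1],
     [6, 4, 3, 2, 2], [7, 4, 2, 2, 1, 1], [6, 5, 3, 2, 1], [7, 4, 3, 2, 1]]
  | 18 =>
    [[18], [17, 1], [16, 2], [16, 1, 1], [15, 3], [15, 1, 1, 1], [15, 2, 1], [14, 4], [14, 1, 1, 1, 1],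
     [14, 2, 2], [9, 9], [13, 5], [13, 1, 1, 1, 1, 1], [14, 3, 1], [14, 2, 1, 1], [12, 6], [10, 8],
     [12, 1, 1, 1, 1, 1, 1], [11, 7], [11, 1, 1, 1, 1, 1, 1, 1], [13, 4, 1], [13, 2, 1, 1, 1],
     [10, 1, 1, 1, 1, 1, 1, 1, 1], [13, 3, 2], [13, 2, 2, 1], [13, 3, 1, 1], [12, 5, 1], [12, 3, 3],
     [12, 2, 2, 2], [12, 2, 1, 1, 1, 1], [9, 8, 1], [6, 6, 6], [11, 6, 1], [9, 2, 1, 1, 1, 1, 1, 1, 1],
     [12, 4, 2], [10, 7, 1], [12, 2, 2, 1, 1], [12, 4, 1, 1], [11, 2, 1, 1, 1, 1, 1], [12, 3, 1, 1, 1],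
     [8, 8, 2], [8, 8, 1, 1], [10, 2, 1, 1, 1, 1, 1, 1], [12, 3, 2, 1], [11, 5, 2], [11, 4, 3],
     [11, 5, 1, 1], [11, 2, 2, 2, 1], [11, 2, 2, 1, 1, 1], [10, 4, 4], [11, 3, 1, 1, 1, 1], [10, 2, 2, 2, 2],
     [9, 7, 2], [10, 6, 2], [11, 4, 1, 1, 1], [9, 7, 1, 1], [10, 6, 1, 1], [11, 3, 3, 1], [11, 3, 2, 2],
     [7, 7, 4], [8, 5, 5], [10, 2, 2, 1, 1, 1, 1], [10, 3, 1, 1, 1, 1, 1], [7, 6, 5], [10, 5, 3], [8, 7, 3],
     [7, 7, 1, 1, 1, 1], [11, 4, 2, 1], [9, 2, 2, 1, 1, 1, 1, 1], [9, 3, 1, 1, 1, 1, 1, 1], [11, 3, 2, 1, 1],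
     [9, 5, 4], [10, 5, 1, 1, 1], [8, 2, 2, 2, 2, 2], [9, 6, 3], [10, 4, 1, 1, 1, 1], [9, 3, 3, 3],
     [8, 6, 4], [9, 6, 1, 1, 1], [10, 3, 3, 2], [5, 5, 5, 3], [5, 4, 4, 4, 1], [7, 7, 2, 2],
     [9, 2, 2, 2, 1, 1, 1], [6, 6, 5, 1], [9, 4, 1, 1, 1, 1, 1], [10, 4, 2, 2], [8, 7, 2, 1],
     [10, 3, 3, 1, 1], [10, 5, 2, 1], [9, 5, 1, 1, 1, 1], [8, 4, 1, 1, 1, 1, 1, 1], [7, 6, 1, 1, 1, 1, 1],
     [8, 3, 2, 1, 1, 1, 1, 1], [8, 6, 1, 1, 1, 1], [7, 7, 3, 1], [10, 4, 3, 1], [10, 3, 2, 1, 1, 1],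
     [9, 4, 4, 1], [8, 2, 2, 2, 2, 1, 1], [10, 3, 2, 2, 1], [7, 7, 2, 1, 1], [9, 6, 2, 1], [7, 5, 5, 1],
     [9, 3, 2, 2, 2], [10, 4, 2, 1, 1], [6, 6, 3, 3], [9, 5, 2, 2], [6, 5, 5, 2], [9, 3, 2, 1, 1, 1, 1],
     [8, 6, 2, 2], [5, 5, 5, 2, 1], [6, 5, 5, 1, 1], [6, 6, 2, 2, 2], [8, 4, 3, 3], [9, 5, 3, 1],
     [7, 6, 4, 1], [7, 3, 2, 2, 2, 2], [7, 4, 4, 3], [8, 6, 3, 1], [9, 4, 3, 2], [8, 4, 4, 2], [8, 5, 4, 1],
     [9, 5, 2, 1, 1], [9, 3, 3, 2, 1], [9, 3, 2, 2, 1, 1], [6, 6, 4, 1, 1], [8, 3, 3, 1, 1, 1, 1],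
     [8, 6, 2, 1, 1], [8, 3, 3, 2, 2], [9, 4, 2, 1, 1, 1], [8, 4, 4, 1, 1], [7, 5, 3, 3], [6, 5, 4, 3],
     [9, 4, 3, 1, 1], [6, 5, 2, 2, 2, 1], [9, 4, 2, 2, 1], [8, 4, 2, 2, 2], [7, 6, 3, 2], [8, 3, 2, 2, 2, 1],
     [7, 6, 2, 1, 1, 1], [6, 6, 3, 1, 1, 1], [6, 6, 2, 2, 1, 1], [5, 5, 4, 2, 2], [7, 4, 2, 2, 1, 1, 1],
     [8, 3, 2, 2, 1, 1, 1], [8, 4, 2, 1, 1, 1, 1], [7, 6, 2, 2, 1], [8, 5, 3, 2], [5, 5, 4, 3, 1],
     [7, 5, 4, 2], [7, 6, 3, 1, 1], [8, 5, 2, 1, 1, 1], [7, 4, 4, 1, 1, 1], [7, 5, 2, 1, 1, 1, 1],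
     [8, 5, 2, 2, 1], [7, 5, 4, 1, 1], [8, 3, 3, 2, 1, 1], [8, 5, 3, 1, 1], [6, 6, 3, 2, 1],
     [6, 5, 4, 1, 1, 1], [8, 4, 3, 1, 1, 1], [6, 4, 4, 3, 1], [8, 4, 2, 2, 1, 1], [6, 4, 3, 3, 2],
     [7, 4, 3, 3, 1], [7, 4, 3, 1, 1, 1, 1], [6, 5, 3, 3, 1], [7, 4, 4, 2, 1], [7, 4, 2, 2, 2, 1],
     [7, 4, 3, 2, 2], [6, 5, 3, 2, 2], [7, 5, 2, 2, 1, 1], [8, 4, 3, 2, 1], [6, 5, 4, 2, 1],
     [6, 4, 4, 2, 1, 1], [7, 5, 3, 2, 1], [6, 5, 3, 2, 1, 1], [7, 4, 3, 2, 1, 1]]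
  | 19 =>
    [[19], [18, 1], [17, 2], [17, 1, 1], [16, 3], [16, 1, 1, 1], [16, 2, 1], [15, 4], [15, 1, 1, 1, 1],
     [15, 2, 2], [14, 5], [14, 1, 1, 1, 1, 1], [15, 3, 1], [15, 2, 1, 1], [13, 6], [10, 9],
     [13, 1, 1, 1, 1, 1, 1], [12, 7], [10, 1, 1, 1, 1, 1, 1, 1, 1, 1], [11, 8], [12, 1, 1, 1, 1, 1, 1, 1],
     [14, 4, 1], [14, 2, 1, 1, 1], [14, 3, 2], [14, 2, 2, 1], [11, 1, 1, 1, 1, 1, 1, 1, 1], [14, 3, 1, 1],
     [9, 9, 1], [13, 5, 1], [13, 3, 3], [13, 2, 2, 2], [13, 2, 1, 1, 1, 1], [13, 4, 2], [13, 2, 2, 1, 1],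
     [13, 4, 1, 1], [13, 3, 1, 1, 1], [10, 8, 1], [11, 7, 1], [13, 3, 2, 1], [11, 2, 1, 1, 1, 1, 1, 1],
     [10, 2, 1, 1, 1, 1, 1, 1, 1], [12, 5, 2], [12, 4, 3], [12, 5, 1, 1], [12, 2, 2, 2, 1],
     [12, 2, 2, 1, 1, 1], [12, 3, 1, 1, 1, 1], [11, 4, 4], [9, 8, 2], [7, 6, 6], [12, 4, 1, 1, 1],
     [12, 3, 3, 1], [12, 3, 2, 2], [11, 6, 2], [8, 8, 3], [11, 6, 1, 1], [10, 7, 2], [10, 7, 1, 1],
     [11, 2, 2, 1, 1, 1, 1], [7, 7, 5], [11, 3, 1, 1, 1, 1, 1], [11, 5, 3], [12, 4, 2, 1], [12, 3, 2, 1, 1],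
     [9, 5, 5], [6, 6, 6, 1], [11, 2, 2, 2, 1, 1], [10, 2, 2, 1, 1, 1, 1, 1], [10, 3, 1, 1, 1, 1, 1, 1],
     [11, 5, 1, 1, 1], [11, 4, 1, 1, 1, 1], [9, 3, 1, 1, 1, 1, 1, 1, 1], [10, 5, 4], [10, 6, 3],
     [9, 2, 2, 2, 2, 2], [11, 3, 3, 2], [10, 3, 3, 3], [8, 7, 4], [9, 7, 1, 1, 1], [10, 6, 1, 1, 1],
     [11, 4, 2, 2], [10, 2, 2, 2, 1, 1, 1], [9, 6, 4], [11, 5, 2, 1], [10, 4, 1, 1, 1, 1, 1],
     [8, 7, 1, 1, 1, 1], [11, 3, 2, 1, 1, 1], [11, 4, 3, 1], [10, 5, 1, 1, 1, 1], [11, 3, 2, 2, 1],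
     [9, 2, 2, 2, 1, 1, 1, 1], [9, 4, 1, 1, 1, 1, 1, 1], [10, 4, 4, 1], [9, 7, 2, 1], [10, 6, 2, 1],
     [10, 3, 2, 2, 2], [7, 4, 4, 4], [8, 6, 1, 1, 1, 1, 1], [8, 7, 2, 2], [10, 5, 2, 2],
     [10, 3, 2, 1, 1, 1, 1], [7, 7, 4, 1], [8, 3, 3, 1, 1, 1, 1, 1], [10, 3, 3, 1, 1, 1], [7, 3, 3, 3, 3],
     [8, 5, 5, 1], [6, 5, 4, 4], [10, 5, 3, 1], [9, 6, 2, 2], [7, 6, 5, 1], [8, 7, 3, 1], [10, 4, 3, 2],
     [9, 4, 3, 3], [7, 7, 3, 2], [6, 5, 5, 3], [10, 5, 2, 1, 1], [9, 3, 3, 3, 1], [5, 5, 5, 2, 2],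
     [9, 4, 4, 2], [8, 3, 2, 2, 2, 2], [9, 6, 3, 1], [10, 4, 3, 1, 1], [6, 6, 4, 3], [9, 3, 3, 2, 2],
     [8, 4, 4, 3], [7, 5, 5, 2], [9, 6, 2, 1, 1], [8, 6, 4, 1], [9, 4, 2, 2, 2], [7, 6, 3, 3],
     [8, 3, 3, 3, 2], [6, 4, 4, 4, 1], [7, 5, 5, 1, 1], [6, 5, 5, 1, 1, 1], [9, 3, 2, 2, 1, 1, 1],
     [8, 5, 3, 3], [6, 4, 3, 3, 3], [7, 6, 2, 2, 2], [9, 5, 3, 2], [9, 5, 2, 1, 1, 1], [7, 6, 2, 1, 1, 1, 1],
     [8, 6, 3, 2], [8, 6, 2, 1, 1, 1], [6, 6, 4, 1, 1, 1], [6, 6, 2, 2, 2, 1], [7, 6, 4, 2], [8, 5, 2, 2, 2],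
     [9, 5, 2, 2, 1], [7, 5, 4, 3], [7, 4, 2, 2, 2, 2], [8, 4, 4, 1, 1, 1], [9, 5, 3, 1, 1], [8, 5, 4, 2],
     [8, 6, 2, 2, 1], [6, 5, 5, 2, 1], [7, 6, 4, 1, 1], [8, 5, 2, 1, 1, 1, 1], [8, 6, 3, 1, 1],
     [9, 4, 2, 2, 1, 1], [7, 4, 4, 1, 1, 1, 1], [8, 5, 4, 1, 1], [8, 3, 3, 2, 2, 1], [8, 3, 3, 2, 1, 1, 1],
     [8, 4, 3, 1, 1, 1, 1], [8, 4, 3, 3, 1], [9, 4, 3, 2, 1], [7, 4, 4, 2, 2], [8, 4, 2, 2, 2, 1],
     [8, 4, 4, 2, 1], [8, 4, 3, 2, 2], [6, 4, 4, 3, 2], [7, 5, 4, 1, 1, 1], [8, 5, 3, 1, 1, 1],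
     [7, 4, 3, 3, 2], [8, 5, 2, 2, 1, 1], [7, 4, 3, 2, 1, 1, 1], [6, 5, 3, 2, 2, 1], [6, 5, 3, 3, 2],
     [6, 5, 4, 2, 2], [7, 5, 3, 1, 1, 1, 1], [6, 6, 3, 2, 1, 1], [7, 5, 3, 3, 1], [7, 5, 2, 2, 1, 1, 1],
     [7, 6, 3, 2, 1], [6, 5, 4, 3, 1], [7, 5, 3, 2, 2], [8, 5, 3, 2, 1], [7, 4, 4, 2, 1, 1],
     [6, 5, 3, 3, 1, 1], [7, 5, 4, 2, 1], [8, 4, 3, 2, 1, 1], [6, 5, 4, 2, 1, 1], [7, 4, 3, 2, 2, 1],
     [7, 5, 3, 2, 1, 1]]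
  | _ => []

/-- the largest degree of `A_n` -/
def maxA (n : ℕ) : ℕ := (degA n).getLastD 0

/-- membership -/
def memb (d : ℕ) (l : List ℕ) : Bool := l.any fun x => Nat.beq x d

theorem memb_iff {d : ℕ} {l : List ℕ} : memb d l = true ↔ d ∈ l := by
  unfold memb
  rw [List.any_eq_true]
  constructor
  · rintro ⟨x, hx, h⟩
    rwa [← Nat.eq_of_beq_eq_true h]
  · intro h
    exact ⟨d, h, Nat.beq_refl d⟩

/-- weakly decreasing -/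
def dec : List ℕ → Bool
  | [] => true
  | [a] => Nat.ble 1 a
  | a :: b :: l => Nat.ble b a && dec (b :: l)

theorem dec_spec : ∀ {l : List ℕ}, dec l = true → l.Pairwise (· ≥ ·) ∧ ∀ a ∈ l, 0 < a := by
  intro l
  induction l with
  | nil => intro _; exact ⟨List.Pairwise.nil, by simp⟩
  | cons a l ih =>
    cases l with
    | nil =>
      intro h
      have h1 : 1 ≤ a := Nat.le_of_ble_eq_true h
      refine ⟨List.pairwise_singleton _ _, fun c hc => ?_⟩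
      rw [List.mem_singleton.1 hc]
      exact h1
    | cons b l =>
      intro h
      rw [dec, Bool.and_eq_true] at h
      have h1 : b ≤ a := Nat.le_of_ble_eq_true h.1
      obtain ⟨h2, h3⟩ := ih h.2
      refine ⟨List.pairwise_cons.2 ⟨fun c hc => ?_, h2⟩, fun c hc => ?_⟩
      · rcases List.mem_cons.1 hc with rfl | hc
        · exact h1
        · exact (List.rel_of_pairwise_cons h2 hc).trans h1
      · rcases List.mem_cons.1 hc with rfl | hc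
        · exact (h3 b (by simp)).trans_le h1
        · exact h3 c hc

/-- the check of a partition with a degree -/
def wchk (n F : ℕ) (l : List ℕ) (d : ℕ) : Bool :=
  dec l && Nat.beq l.sum n && (if transpose l = l then Nat.beq (Nat.mul (Nat.mul 2 d) (hookProd l)) F
    else Nat.beq (Nat.mul d (hookProd l)) F)

/-- the check of all partitions -/
def pchk (F : ℕ) (L : List ℕ) (l : List ℕ) (H : ℕ) : Bool :=
  if transpose l = l then memb (Nat.div (Nat.div F H) 2) L else memb (Nat.div F H) L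

/-- the check for `n` -/
def achk (n F : ℕ) : Bool :=
  go (pchk F (degA n)) (n + 1) n 1 [] 1 && Nat.beq (wit n).length (degA n).length &&
    ((wit n).zip (degA n)).all (fun p => wchk n F p.1 p.2) && (degA n).all (fun d => Nat.ble d (maxA n)) &&
    memb (maxA n) (degA n)

/-- statement A1 of S4766 -/
def A1St : Prop := ∀ {n : ℕ} (_ : 2 ≤ n) {l : List ℕ} (_ : IsPart l n) {d : ℕ} (_ : d * hookProd l = n.factorial),
    (transpose l ≠ l → d ∈ D n) ∧ (transpose l = l → ∃ e : ℕ, d = 2 * e ∧ e ∈ D n)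

/-- statement A2 of S4766 -/
def A2St : Prop := ∀ {n : ℕ} (_ : 2 ≤ n) {d : ℕ} (_ : d ∈ D n),
    ∃ l : List ℕ, IsPart l n ∧ ((transpose l ≠ l ∧ d * hookProd l = n.factorial) ∨
      (transpose l = l ∧ 2 * d * hookProd l = n.factorial))

theorem mem_of_achk (h1 : A1St) (h2 : A2St) {n F : ℕ} (hn : 2 ≤ n) (hF : n.factorial = F) (h : achk n F = true) {d : ℕ} :
    (d ∈ D n ↔ d ∈ degA n) ∧ (d ∈ D n → d ≤ maxA n) ∧ maxA n ∈ D n := by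
  subst hF
  unfold achk at h
  rw [Bool.and_eq_true, Bool.and_eq_true, Bool.and_eq_true, Bool.and_eq_true] at h
  obtain ⟨⟨⟨⟨hgo, hlen⟩, hw⟩, hmax⟩, hmax'⟩ := h
  have hlen' := Nat.eq_of_beq_eq_true hlen
  have key1 : ∀ d, d ∈ D n → d ∈ degA n := by
    intro d hd
    obtain ⟨l, hl, hcase⟩ := h2 hn hd
    have hc := check_of_isPart hgo hl
    have hpos : 0 < hookProd l := by
      apply Nat.pos_of_ne_zero
      intro h0
      rcases hcase with ⟨-, he⟩ | ⟨-, he⟩ <;> · rw [h0, mul_zero] at he; exact absurd he.symm (Nat.factorial_pos n).ne'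
    unfold pchk at hc
    rcases hcase with ⟨ht, he⟩ | ⟨ht, he⟩
    · rw [if_neg ht, memb_iff] at hc
      have h3 : Nat.div n.factorial (hookProd l) = d := by
        rw [← he]
        exact Nat.mul_div_cancel d hpos
      rwa [h3] at hc
    · rw [if_pos ht, memb_iff] at hc
      have h3 : Nat.div n.factorial (hookProd l) = 2 * d := by
        rw [← he]
        exact Nat.mul_div_cancel (2 * d) hpos
      have h4 : Nat.div (2 * d) 2 = d := Nat.mul_div_cancel_left d (by norm_num)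
      rwa [h3, h4] at hc
  have key2 : ∀ d, d ∈ degA n → d ∈ D n := by
    intro d hd
    obtain ⟨i, hi, rfl⟩ := List.getElem_of_mem hd
    rw [List.all_eq_true] at hw
    have hi' : i < (wit n).length := by omega
    have h3 := hw ((wit n)[i], (degA n)[i]) (by
      rw [List.mem_iff_getElem]
      exact ⟨i, by rw [List.length_zip]; omega, by rw [List.getElem_zip]⟩)
    unfold wchk at h3
    rw [Bool.and_eq_true, Bool.and_eq_true] at h3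
    obtain ⟨⟨h4, h5⟩, h6⟩ := h3
    obtain ⟨h7, h8⟩ := dec_spec h4
    have hp : IsPart (wit n)[i] n := ⟨h7, h8, Nat.eq_of_beq_eq_true h5⟩
    dsimp only at h6
    split_ifs at h6 with ht
    · have h9 : 2 * (degA n)[i] * hookProd (wit n)[i] = n.factorial := Nat.eq_of_beq_eq_true h6
      obtain ⟨e, he, he'⟩ := (h1 hn hp h9).2 ht
      have : (degA n)[i] = e := by omega
      rwa [this]
    · have h9 : (degA n)[i] * hookProd (wit n)[i] = n.factorial := Nat.eq_of_beq_eq_true h6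
      exact (h1 hn hp h9).1 ht
  refine ⟨⟨key1 d, key2 d⟩, fun hd => ?_, key2 _ (memb_iff.1 hmax')⟩
  rw [List.all_eq_true] at hmax
  exact Nat.le_of_ble_eq_true (hmax d (key1 d hd))

theorem achk5 : achk 5 120 = true := by decide +kernel

theorem achk6 : achk 6 720 = true := by decide +kernel

theorem achk7 : achk 7 5040 = true := by decide +kernel

theorem achk8 : achk 8 40320 = true := by decide +kernel

theorem achk9 : achk 9 362880 = true := by decide +kernel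

theorem achk10 : achk 10 3628800 = true := by decide +kernel

theorem achk11 : achk 11 39916800 = true := by decide +kernel

theorem achk12 : achk 12 479001600 = true := by decide +kernel

theorem achk13 : achk 13 6227020800 = true := by decide +kernel

theorem achk14 : achk 14 87178291200 = true := by decide +kernel

theorem achk15 : achk 15 1307674368000 = true := by decide +kernel

theorem achk16 : achk 16 20922789888000 = true := by decide +kernel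

theorem achk17 : achk 17 355687428096000 = true := by decide +kernel

theorem achk18 : achk 18 6402373705728000 = true := by decide +kernel

theorem achk19 : achk 19 121645100408832000 = true := by decide +kernel

theorem achk_all {n : ℕ} (hn : 5 ≤ n) (hn' : n ≤ 19) : ∃ F, n.factorial = F ∧ achk n F = true := by
  interval_cases n
  · exact ⟨_, by norm_num [Nat.factorial], achk5⟩
  · exact ⟨_, by norm_num [Nat.factorial], achk6⟩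
  · exact ⟨_, by norm_num [Nat.factorial], achk7⟩
  · exact ⟨_, by norm_num [Nat.factorial], achk8⟩
  · exact ⟨_, by norm_num [Nat.factorial], achk9⟩
  · exact ⟨_, by norm_num [Nat.factorial], achk10⟩
  · exact ⟨_, by norm_num [Nat.factorial], achk11⟩
  · exact ⟨_, by norm_num [Nat.factorial], achk12⟩
  · exact ⟨_, by norm_num [Nat.factorial], achk13⟩
  · exact ⟨_, by norm_num [Nat.factorial], achk14⟩
  · exact ⟨_, by norm_num [Nat.factorial], achk15⟩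
  · exact ⟨_, by norm_num [Nat.factorial], achk16⟩
  · exact ⟨_, by norm_num [Nat.factorial], achk17⟩
  · exact ⟨_, by norm_num [Nat.factorial], achk18⟩
  · exact ⟨_, by norm_num [Nat.factorial], achk19⟩

/-- **The degrees of `A_n`, `5 ≤ n ≤ 19`** (from A1, A2) -/
theorem mem_D_iff_of (h1 : A1St) (h2 : A2St) {n : ℕ} (hn : 5 ≤ n) (hn' : n ≤ 19) {d : ℕ} : d ∈ D n ↔ d ∈ degA n := by
  obtain ⟨F, hF, h⟩ := achk_all hn hn'
  exact (mem_of_achk h1 h2 (by omega) hF h).1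

theorem le_maxA_of (h1 : A1St) (h2 : A2St) {n : ℕ} (hn : 5 ≤ n) (hn' : n ≤ 19) {d : ℕ} (hd : d ∈ D n) : d ≤ maxA n := by
  obtain ⟨F, hF, h⟩ := achk_all hn hn'
  exact (mem_of_achk h1 h2 (by omega) hF h).2.1 hd

theorem maxA_mem_of (h1 : A1St) (h2 : A2St) {n : ℕ} (hn : 5 ≤ n) (hn' : n ≤ 19) : maxA n ∈ D n := by
  obtain ⟨F, hF, h⟩ := achk_all hn hn'
  exact (mem_of_achk h1 h2 (d := 0) (by omega) hF h).2.2

end Cfsg.Agent.H835.AN
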